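import Cfsg.Agent.H199.HT.Plane
import Cfsg.Agent.H742.HT.Fus
import Cfsg.Agent.H192.Ht.QLN
import Cfsg.Agent.H19.HT.Asm

/-!
# S3512, the row `J₂`, `|V| = 2 ^ 12`, `m = 315` (helper506)

`E = ⟨x, y⟩` is a Sylow 5-subgroup of `L`.  The fixed point formula for `E` on `V` shows that `C_V(E) = 0`, that three of the six
subgroups of order 5 of `E` have 16 fixed points and the other three one.  Every `L`-orbit of non-zero vectors has length
at most 315 and contains at least five of the at most 51 vectors fixed by an element of order 5 of `E`.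
-/

set_option autoImplicit false
set_option linter.unusedSectionVars false

universe u w

namespace Cfsg.Agent.H506.HT

open Cfsg Cfsg.Agent.H828.HT Cfsg.Agent.H199.HT Cfsg.Agent.H742.HT Subgroup

section dim

variable {K : Type*} [Field K] [Finite K] {V : Type*} [AddCommGroup V] [Module K V] [Finite V] {L : Type*} [Group L]
  [Finite L] {x y d u : L}

/-- **the fixed point formula** for the plane, `p ≠ 5` -/
theorem dim_formula {p : ℕ} [Fact p.Prime] (κ : L →* (V ≃ₗ[K] V)) (h : Five x y d u) (hp : ∀ v : V, p • v = 0)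
    (hp5 : ¬ p ∣ 25) :
    ∑ i : Fin 6, Module.finrank K (F1 κ (pt x y i)) = 5 * Module.finrank K ↥(F1 κ x ⊓ F1 κ y) + Module.finrank K V := by
  classical
  let ρ : h.pl →* AddMonoid.End V :=
    { toFun := fun l => ((κ l : V →ₗ[K] V) : V →+ V)
      map_one' := by ext v; rw [OneMemClass.coe_one, map_one]; rfl
      map_mul' := fun a b => by ext v; rw [Subgroup.coe_mul, map_mul]; rfl }
  have hρ : ∀ (l : h.pl) v, ρ l v = κ l v := fun l v => rfl
  have hle : ∀ i, zpowers (pt x y i) ≤ h.pl := fun i => zpowers_le.2 (h.pt_mem i)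
  have key := OddOrderCharacters.WielandtElem.prod_eq_prod (r := p) hp ρ (by rw [h.card_pl]; exact hp5) (I := Fin 6)
    (J := Option (Fin 5)) (fun i => (zpowers (pt x y i)).subgroupOf h.pl)
    (fun j => match j with | none => ⊤ | some _ => ⊥) ?_
  · have hq : 1 < Nat.card K := Finite.one_lt_card
    -- the cardinals
    have e1 : ∀ i : Fin 6, Nat.card {v : V // ∀ l ∈ (zpowers (pt x y i)).subgroupOf h.pl, ρ l v = v} =
        Nat.card K ^ Module.finrank K (F1 κ (pt x y i)) := by
      intro i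
      rw [← Module.natCard_eq_pow_finrank (K := K) (V := F1 κ (pt x y i))]
      refine Nat.card_congr (Equiv.subtypeEquivRight fun v => ?_)
      constructor
      · intro hv
        exact hv ⟨pt x y i, h.pt_mem i⟩ (mem_zpowers _)
      · intro hv l hl
        exact fix_zpow hv hl
    have e2 : Nat.card {v : V // ∀ l ∈ (⊤ : Subgroup h.pl), ρ l v = v} =
        Nat.card K ^ Module.finrank K ↥(F1 κ x ⊓ F1 κ y) := by
      rw [← Module.natCard_eq_pow_finrank (K := K) (V := ↥(F1 κ x ⊓ F1 κ y))]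
      refine Nat.card_congr (Equiv.subtypeEquivRight fun v => ?_)
      constructor
      · intro hv
        exact ⟨hv ⟨x, ⟨1, 0, by simp⟩⟩ trivial, hv ⟨y, ⟨0, 1, by simp⟩⟩ trivial⟩
      · rintro ⟨h1, h2⟩ ⟨l, i, j, rfl⟩ -
        rw [hρ, kmul, fix_pow h2, fix_pow h1]
    have e3 : Nat.card {v : V // ∀ l ∈ (⊥ : Subgroup h.pl), ρ l v = v} = Nat.card K ^ Module.finrank K V := by
      rw [← Module.natCard_eq_pow_finrank (K := K) (V := V)]
      refine Nat.card_congr (Equiv.subtypeUnivEquiv fun v => ?_)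
      intro l hl
      rw [Subgroup.mem_bot.1 hl, map_one]
      rfl
    have e4 : ∀ i : Fin 6, Nat.card ((zpowers (pt x y i)).subgroupOf h.pl) = 5 := by
      intro i
      have f5 : Fact (Nat.Prime 5) := ⟨by norm_num⟩
      rw [Nat.card_congr (subgroupOfEquivOfLe (hle i)).toEquiv, Nat.card_zpowers]
      apply orderOf_eq_prime (h.pow_five (h.pt_mem i))
      intro h2
      by_cases h3 : (i : ℕ) = 5
      · rw [pt, if_pos h3] at h2
        exact h.y1 h2
      · rw [pt, if_neg h3] at h2
        have h4 := (h.inj (i := 1) (j := i) (by rw [pow_one]; exact h2)).1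
        omega
    rw [Fintype.prod_option] at key
    simp only [e1, e2, e3, e4, Subgroup.card_top, h.card_pl, Subgroup.card_bot, pow_one, ← pow_mul] at key
    rw [Finset.prod_const, Finset.card_univ, Fintype.card_fin, ← pow_mul, ← pow_add, Finset.prod_pow_eq_pow_sum] at key
    have h3 := Nat.pow_right_injective hq key
    have h4 : ∑ i : Fin 6, Module.finrank K (F1 κ (pt x y i)) * 5 =
        (∑ i : Fin 6, Module.finrank K (F1 κ (pt x y i))) * 5 := (Finset.sum_mul _ _ _).symm
    have h5 : (∑ i : Fin 6, Module.finrank K (F1 κ (pt x y i))) * 5 =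
        Module.finrank K ↥(F1 κ x ⊓ F1 κ y) * 25 + Module.finrank K V * 5 := by rw [← h4]; exact h3
    omega
  · rintro ⟨f, i, j, hf'⟩
    by_cases h0 : i % 5 = 0 ∧ j % 5 = 0
    · have hf1 : (⟨f, i, j, hf'⟩ : h.pl) = 1 := by
        apply Subtype.ext
        change f = 1
        rw [hf', h.pow_mod, h.pow_mod' j, h0.1, h0.2]; simp
      rw [Nat.card_congr (Equiv.subtypeUnivEquiv fun i => by rw [hf1]; exact one_mem _),
        Nat.card_congr (Equiv.subtypeUnivEquiv fun j => by rw [hf1]; exact one_mem _)]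
      simp
    · have hf1 : (⟨f, i, j, hf'⟩ : h.pl) ≠ 1 := by
        intro e
        have e' : f = 1 := congrArg Subtype.val e
        rw [hf'] at e'
        exact h0 (h.inj e')
      have e1 : Nat.card {k : Fin 6 // (⟨f, i, j, hf'⟩ : h.pl) ∈ (zpowers (pt x y k)).subgroupOf h.pl} = 1 := by
        rw [← card_onLine i j h0]
        exact Nat.card_congr (Equiv.subtypeEquivRight fun k => by
          rw [Subgroup.mem_subgroupOf]
          change f ∈ _ ↔ _
          rw [hf']; exact mem_line h i j k)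
      rw [e1]
      symm
      rw [Nat.card_eq_one_iff_unique]
      refine ⟨⟨?_⟩, ⟨⟨none, Subgroup.mem_top _⟩⟩⟩
      rintro ⟨a, ha⟩ ⟨b, hb⟩
      cases a with
      | none =>
        cases b with
        | none => rfl
        | some i' => exact absurd hb hf1
      | some i' => exact absurd ha hf1

/-- the dimensions, `|V| = 2 ^ 12` -/
theorem dims {V : Type*} [AddCommGroup V] [Module (ZMod 2) V] [Finite V] (κ : L →* (V ≃ₗ[ZMod 2] V))
    (hκ : Function.Injective κ) (h : Five x y d u) (hV : Nat.card V = 4096) :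
    F1 κ x ⊓ F1 κ y = ⊥ ∧ ∑ i : Fin 6, Nat.card (F1 κ (pt x y i)) = 51 := by
  have f2 : Fact (Nat.Prime 2) := ⟨by norm_num⟩
  have f5 : Fact (Nat.Prime 5) := ⟨by norm_num⟩
  have hpV : ∀ v : V, 2 • v = 0 := by
    intro v
    have h1 : ((2 : ℕ) : ZMod 2) • v = 0 := by rw [ZMod.natCast_self, zero_smul]
    rwa [Nat.cast_smul_eq_nsmul] at h1
  have hsum := dim_formula (p := 2) κ h hpV (by norm_num)
  obtain ⟨h0, h1, h3, h4⟩ := finrank_orbits κ h
  have hcard : ∀ W : Submodule (ZMod 2) V, Nat.card W = 2 ^ Module.finrank (ZMod 2) W := by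
    intro W
    rw [Module.natCard_eq_pow_finrank (K := ZMod 2) (V := W), Nat.card_zmod]
  have hn : Module.finrank (ZMod 2) V = 12 := by
    have h5 := Module.natCard_eq_pow_finrank (K := ZMod 2) (V := V)
    rw [hV, Nat.card_zmod] at h5
    exact Nat.pow_right_injective (le_refl 2) (h5.symm.trans (by norm_num : 4096 = 2 ^ 12))
  -- the dimensions are divisible by four
  have hfour : ∀ W : Submodule (ZMod 2) V, Nat.card V ≡ Nat.card W [MOD 5] → Module.finrank (ZMod 2) W ≤ 12 ∧
      4 ∣ Module.finrank (ZMod 2) W := by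
    intro W hW
    have h5 : Module.finrank (ZMod 2) W ≤ 12 := by rw [← hn]; exact Submodule.finrank_le _
    refine ⟨h5, ?_⟩
    rw [hV, hcard] at hW
    generalize Module.finrank (ZMod 2) W = c at *
    interval_cases c <;> first | (exfalso; revert hW; decide) | decide
  have hmod : ∀ P : Subgroup L, IsPGroup 5 P → ∀ W : Submodule (ZMod 2) V,
      (∀ v, v ∈ W ↔ ∀ g ∈ P, κ g v = v) → Nat.card V ≡ Nat.card W [MOD 5] := by
    intro P hP W hW
    let _ : MulAction P V := MulAction.compHom V (κ.comp P.subtype)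
    have h5 := hP.card_modEq_card_fixedPoints V
    have h6 : Nat.card (MulAction.fixedPoints P V) = Nat.card W := by
      refine Nat.card_congr (Equiv.subtypeEquivRight fun v => ?_)
      rw [hW]
      constructor
      · intro hv g hg
        exact hv ⟨g, hg⟩
      · intro hv g
        exact hv g g.2
    rwa [h6] at h5
  have hz : ∀ i, Nat.card V ≡ Nat.card (F1 κ (pt x y i)) [MOD 5] := by
    intro i
    refine hmod (zpowers (pt x y i)) ?_ _ ?_
    · rintro ⟨z, k, rfl⟩
      refine ⟨1, Subtype.ext ?_⟩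
      change (pt x y i ^ k) ^ 5 ^ 1 = 1
      rw [pow_one, ← zpow_natCast, ← zpow_mul, mul_comm, zpow_mul, zpow_natCast, h.pow_five (h.pt_mem i), one_zpow]
    · intro v
      constructor
      · intro hv g hg
        exact fix_zpow hv hg
      · intro hv
        exact hv _ (mem_zpowers _)
  have hE : Nat.card V ≡ Nat.card ↥(F1 κ x ⊓ F1 κ y) [MOD 5] := by
    refine hmod h.pl ?_ _ ?_
    · exact IsPGroup.of_card (n := 2) (by rw [h.card_pl]; norm_num)
    · intro v
      constructor
      · rintro ⟨h1, h2⟩ l ⟨i, j, rfl⟩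
        rw [kmul, fix_pow h2, fix_pow h1]
      · intro hv
        exact ⟨hv x ⟨1, 0, by simp⟩, hv y ⟨0, 1, by simp⟩⟩
  obtain ⟨a1, a2⟩ := hfour _ (hz 5)
  obtain ⟨b1, b2⟩ := hfour _ (hz 2)
  obtain ⟨c1, c2⟩ := hfour _ hE
  have hc12 : Module.finrank (ZMod 2) ↥(F1 κ x ⊓ F1 κ y) ≠ 12 := by
    intro e
    have h7 : F1 κ x ⊓ F1 κ y = ⊤ := Submodule.eq_top_of_finrank_eq (by rw [e, hn])
    apply h.x1
    apply hκ
    rw [map_one]
    apply LinearEquiv.ext
    intro v
    have h8 : v ∈ F1 κ x ⊓ F1 κ y := by rw [h7]; trivial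
    exact h8.1
  simp only [Fin.sum_univ_six] at hsum ⊢
  simp only [hcard]
  rw [h0, h1, h3, h4, hn] at hsum
  rw [h0, h1, h3, h4]
  set a := Module.finrank (ZMod 2) (F1 κ (pt x y 5)) with ha
  set b := Module.finrank (ZMod 2) (F1 κ (pt x y 2)) with hb
  set c := Module.finrank (ZMod 2) ↥(F1 κ x ⊓ F1 κ y) with hc
  have hc0 : c = 0 := by omega
  refine ⟨Submodule.finrank_eq_zero.1 hc0, ?_⟩
  have hab : (a = 0 ∧ b = 4) ∨ (a = 4 ∧ b = 0) := by omega
  rcases hab with ⟨e1, e2⟩ | ⟨e1, e2⟩ <;> rw [e1, e2] <;> norm_num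

end dim

/-- **the count** -/
theorem core {V : Type*} [AddCommGroup V] [Module (ZMod 2) V] [Finite V] {L : Subgroup (V ≃ₗ[ZMod 2] V)} {x y d u : L}
    (h : Five x y d u) (hV : Nat.card V = 4096) (hfac : (Nat.card L).factorization 5 = 2)
    (horb : ∀ v : V, v ≠ 0 → Nat.card (MulAction.orbit L v) ≤ 315 ∧ 5 ∣ Nat.card (MulAction.stabilizer L v)) :
    False := by
  classical
  have f5 : Fact (Nat.Prime 5) := ⟨by norm_num⟩
  let κ : L →* (V ≃ₗ[ZMod 2] V) := L.subtype
  obtain ⟨hE, hsum⟩ := dims κ L.subtype_injective h hV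
  obtain ⟨P, hP⟩ := h.exists_sylow hfac
  let A : V → Prop := fun v => ∃ i, v ∈ F1 κ (pt x y i)
  have key : ∀ v : V, 5 * Nat.card (MulAction.orbit L v) ≤
      315 * Nat.card {w : MulAction.orbit L v // A (w : V)} := by
    intro v
    by_cases hv : v = 0
    · subst hv
      have h1 : Nat.card (MulAction.orbit L (0 : V)) = 1 := by
        rw [Nat.card_eq_one_iff_unique]
        refine ⟨⟨?_⟩, ⟨⟨0, MulAction.mem_orbit_self _⟩⟩⟩
        rintro ⟨_, a, rfl⟩ ⟨_, b, rfl⟩
        apply Subtype.ext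
        change ((a : V ≃ₗ[ZMod 2] V)) 0 = ((b : V ≃ₗ[ZMod 2] V)) 0
        rw [map_zero, map_zero]
      have h2 : 0 < Nat.card {w : MulAction.orbit L (0 : V) // A (w : V)} := by
        have : Nonempty {w : MulAction.orbit L (0 : V) // A (w : V)} :=
          ⟨⟨⟨0, MulAction.mem_orbit_self _⟩, 0, Submodule.zero_mem _⟩⟩
        exact Nat.card_pos
      omega
    · obtain ⟨h1, h2⟩ := horb v hv
      -- an element of order 5 of the stabiliser, conjugate into the plane
      obtain ⟨⟨g, hgs⟩, hg⟩ := exists_prime_orderOf_dvd_card' 5 h2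
      have hg' : orderOf g = 5 := by rw [← hg]; exact (Subgroup.orderOf_mk g hgs).symm
      have hgv : (g : V ≃ₗ[ZMod 2] V) v = v := hgs
      have hgp : IsPGroup 5 (zpowers g) := IsPGroup.of_card (n := 1) (by rw [Nat.card_zpowers, hg', pow_one])
      obtain ⟨Q, hQ⟩ := hgp.exists_le_sylow
      obtain ⟨k, hk⟩ := MulAction.exists_smul_eq L Q P
      have h3 : k * g * k⁻¹ ∈ h.pl := by
        rw [← hP, ← hk]
        exact ⟨g, hQ (mem_zpowers g), rfl⟩
      have h4 : zpowers (k * g * k⁻¹) ≤ h.pl := zpowers_le.2 h3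
      have h5 : Nat.card (zpowers (k * g * k⁻¹)) = 5 := by
        rw [Nat.card_zpowers]
        have : orderOf (k * g * k⁻¹) = orderOf g := by
          have := orderOf_injective (MulAut.conj k).toMonoidHom (MulAut.conj k).injective g
          simpa using this
        rw [this, hg']
      obtain ⟨i, hi⟩ := h.line_cases h4 h5
      set w : V := (k : V ≃ₗ[ZMod 2] V) v with hw
      have hw0 : w ≠ 0 := fun hc => hv ((k : V ≃ₗ[ZMod 2] V).map_eq_zero_iff.1 hc)
      have hAw : w ∈ F1 κ (pt x y i) := by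
        have h6 : F1 κ (k * g * k⁻¹) = F1 κ (pt x y i) :=
          F1_eq (by rw [← hi]; exact mem_zpowers _) (by rw [hi]; exact mem_zpowers _)
        rw [← h6]
        change κ (k * g * k⁻¹) (κ k v) = κ k v
        have h7 : κ g v = v := hgv
        rw [kmul, kmul, kinv', h7]
      -- the orbit of the plane
      have h8 : 5 ≤ Nat.card (MulAction.orbit h.pl w) := by
        have h9 : Nat.card (MulAction.orbit h.pl w) * Nat.card (MulAction.stabilizer h.pl w) = 25 := by
          rw [← Nat.card_prod, ← h.card_pl]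
          exact Nat.card_congr (MulAction.orbitProdStabilizerEquivGroup h.pl w)
        have h10 : Nat.card (MulAction.stabilizer h.pl w) ∣ 5 ^ 2 := ⟨_, by rw [mul_comm] at h9; exact h9.symm⟩
        obtain ⟨j, hj, hj'⟩ := (Nat.dvd_prime_pow f5.out).1 h10
        rw [hj'] at h9
        have h11 : j ≠ 2 := by
          rintro rfl
          have h12 : MulAction.stabilizer h.pl w = ⊤ := Subgroup.eq_top_of_card_eq _ (by rw [hj', h.card_pl]; norm_num)
          apply hw0
          have h13 : w ∈ F1 κ x ⊓ F1 κ y := by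
            refine ⟨?_, ?_⟩
            · have : (⟨x, ⟨1, 0, by simp⟩⟩ : h.pl) ∈ MulAction.stabilizer h.pl w := by rw [h12]; trivial
              exact this
            · have : (⟨y, ⟨0, 1, by simp⟩⟩ : h.pl) ∈ MulAction.stabilizer h.pl w := by rw [h12]; trivial
              exact this
          rw [hE] at h13
          exact (Submodule.mem_bot _).1 h13
        have h12 : j = 0 ∨ j = 1 := by omega
        rcases h12 with rfl | rfl <;> omega
      have h9 : Nat.card (MulAction.orbit h.pl w) ≤ Nat.card {w : MulAction.orbit L v // A (w : V)} := by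
        refine Nat.card_le_card_of_injective (fun t => ⟨⟨t.1, ?_⟩, i, ?_⟩) ?_
        · obtain ⟨e, he⟩ := t.2
          refine ⟨(e : L) * k, ?_⟩
          rw [← he]
          rfl
        · obtain ⟨e, he⟩ := t.2
          have he' : κ (e : L) w = t.1 := he
          change κ (pt x y i) t.1 = t.1
          have hc : pt x y i * (e : L) = (e : L) * pt x y i := h.comm_pl (h.pt_mem i) e.2
          have hAw' : κ (pt x y i) w = w := hAw
          rw [← he', ← kmul, hc, kmul, hAw']
        · intro a b hab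
          exact Subtype.ext (congrArg (fun z => ((z : {w : MulAction.orbit L v // A (w : V)}).1 : V)) hab)
      have := h8.trans h9
      calc 5 * Nat.card (MulAction.orbit L v) ≤ 5 * 315 := Nat.mul_le_mul_left _ h1
        _ = 315 * 5 := by norm_num
        _ ≤ _ := Nat.mul_le_mul_left _ this
  let _ : Fintype (MulAction.orbitRel.Quotient L V) := Fintype.ofFinite _
  have h1 := Fus.card_eq_sum (Γ := L) (X := V)
  have h2 := Fus.card_subtype_eq_sum (Γ := L) (X := V) A
  have h3 : 5 * Nat.card V ≤ 315 * Nat.card {v // A v} := by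
    rw [h1, h2, Finset.mul_sum, Finset.mul_sum]
    refine Finset.sum_le_sum fun ω _ => ?_
    induction ω using Quotient.inductionOn' with
    | h v => exact key v
  have h4 : Nat.card {v // A v} ≤ 51 := by
    rw [← hsum, ← Nat.card_sigma]
    refine Nat.card_le_card_of_injective (fun v => (⟨v.2.choose, ⟨v.1, v.2.choose_spec⟩⟩ :
      Σ i : Fin 6, F1 κ (pt x y i))) ?_
    intro a b hab
    have h5 : ((⟨a.2.choose, ⟨a.1, a.2.choose_spec⟩⟩ : Σ i : Fin 6, F1 κ (pt x y i)).2 : V) =
        ((⟨b.2.choose, ⟨b.1, b.2.choose_spec⟩⟩ : Σ i : Fin 6, F1 κ (pt x y i)).2 : V) :=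
      congrArg (fun z : Σ i : Fin 6, F1 κ (pt x y i) => (z.2 : V)) hab
    exact Subtype.ext h5
  rw [hV] at h3
  omega

/-! ### The row -/

variable {p : ℕ} [Fact p.Prime] {K : Type w} [Field K] {V : Type u} [AddCommGroup V] [Module (ZMod p) V] [Finite V]
    [Module K V] {G L : Subgroup (V ≃ₗ[ZMod p] V)} {h : ℕ}

/-- central elements have order dividing `|K| - 1` -/
theorem center_pow (H : QL p K V G L h) {z : L} (hz : z ∈ center L) : z ^ (Nat.card K - 1) = 1 := by
  have hK := H192.Ht.QN.finiteK H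
  obtain ⟨v0, hv0⟩ := H192.Ht.QN.exists_ne H
  obtain ⟨c, hc⟩ := H.endo ((z : V ≃ₗ[ZMod p] V) : V →ₗ[ZMod p] V) (by
    intro l hl v
    have h1 := Subgroup.mem_center_iff.1 hz ⟨l, hl⟩
    have h2 := congrArg (fun k : L => (k : V ≃ₗ[ZMod p] V) v) h1
    exact h2.symm)
  have hc0 : c ≠ 0 := by
    rintro rfl
    apply hv0
    have h1 : (z : V ≃ₗ[ZMod p] V) v0 = (0 : K) • v0 := hc v0
    rw [zero_smul] at h1
    exact (z : V ≃ₗ[ZMod p] V).map_eq_zero_iff.1 h1
  have h1 : ∀ (n : ℕ) (v : V), ((z ^ n : L) : V ≃ₗ[ZMod p] V) v = c ^ n • v := by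
    intro n
    induction n with
    | zero => intro v; simp
    | succ n ih =>
      intro v
      rw [pow_succ' z n]
      change (z : V ≃ₗ[ZMod p] V) (((z ^ n : L) : V ≃ₗ[ZMod p] V) v) = _
      have h3 : ∀ v, (z : V ≃ₗ[ZMod p] V) v = c • v := hc
      rw [ih, h3, smul_smul, ← pow_succ']
  have h2 : c ^ (Nat.card K - 1) = 1 := by
    have : Fintype K := Fintype.ofFinite K
    rw [Nat.card_eq_fintype_card]
    exact FiniteField.pow_card_sub_one_eq_one c hc0
  apply Subtype.ext
  apply LinearEquiv.ext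
  intro v
  rw [h1, h2, one_smul]
  rfl

/-- **The row `J₂`, `|V| = 2 ^ 12`.** -/
theorem kill_J2 (H : QL p K V G L h) (hS : Spor.IsoJ2 (L ⧸ Subgroup.center L)) {m : ℕ} (hm : m * h = Nat.card G)
    (hl : (Module.finrank K V, Nat.card K, m) ∈ [(6, 4, 315), (12, 2, 315)]) : False := by
  have hK := H192.Ht.QN.finiteK H
  obtain ⟨v0, hv0⟩ := H192.Ht.QN.exists_ne H
  have h0 : 0 < h := Cfsg.Agent.H19.HT.h_pos H.half hv0
  have f5 : Fact (Nat.Prime 5) := ⟨by norm_num⟩
  obtain ⟨hc2, hV, hm5⟩ : (Nat.card K - 1) ∣ 3 ∧ Nat.card V = 4096 ∧ m = 315 := by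
    simp only [List.mem_cons, Prod.mk.injEq, List.not_mem_nil, or_false] at hl
    rw [H192.Ht.QN.card_V H]
    rcases hl with ⟨h1, h2, h3⟩ | ⟨h1, h2, h3⟩
    · rw [h1, h2]; exact ⟨by norm_num, by norm_num, h3⟩
    · rw [h1, h2]; exact ⟨by norm_num, by norm_num, h3⟩
  have hp2 : p = 2 := by
    have h1 : p ∣ Nat.card V := by
      obtain ⟨k, hk, hk0⟩ := H192.Ht.QN.exists_card H
      rw [H192.Ht.QN.card_V H, hk]
      exact dvd_pow (dvd_pow_self _ hk0.ne') (H192.Ht.QN.finrank_pos H).ne'
    rw [hV, show (4096 : ℕ) = 2 ^ 12 by norm_num] at h1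
    exact (Nat.prime_dvd_prime_iff_eq Fact.out (by norm_num)).1 ((Fact.out : p.Prime).dvd_of_dvd_pow h1)
  subst hp2
  subst hm5
  have hz6 : ∀ z ∈ center L, z ^ 6 = 1 := by
    intro z hz
    have h1 := orderOf_dvd_of_pow_eq_one (center_pow H hz)
    exact orderOf_dvd_iff_pow_eq_one.1 ((h1.trans hc2).trans (by norm_num))
  have hz : ¬ 5 ∣ Nat.card (center L) := by
    intro h5
    obtain ⟨z, hz⟩ := exists_prime_orderOf_dvd_card' 5 h5
    have h1 : (z : L) = 1 := by
      refine central_one hz6 z.2 ?_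
      have h2 : z ^ 5 = 1 := by rw [← hz]; exact pow_orderOf_eq_one z
      exact congrArg Subtype.val h2
    have h2 : z = 1 := Subtype.ext h1
    rw [h2, orderOf_one] at hz
    norm_num at hz
  have hcL : Nat.card L = 604800 * Nat.card (center L) := by
    rw [← card_J2 hS]; exact Subgroup.card_eq_card_quotient_mul_card_subgroup _
  have hcz : Nat.card (center L) ≠ 0 := Nat.card_pos.ne'
  have hfac : (Nat.card L).factorization 5 = 2 := by
    rw [hcL, Nat.factorization_mul (by norm_num) hcz, Finsupp.add_apply, Nat.factorization_eq_zero_of_not_dvd hz,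
      show (604800 : ℕ) = 5 ^ 2 * 24192 by norm_num, Nat.factorization_mul (by norm_num) (by norm_num),
      Finsupp.add_apply, Nat.Prime.factorization_pow (by norm_num), Finsupp.single_eq_same,
      Nat.factorization_eq_zero_of_not_dvd (by norm_num)]
  obtain ⟨x', y', d', u', s', h5'⟩ := exists_fiveN hS
  obtain ⟨x, y, d, u, h5⟩ := lift_five hz6 h5'.toFive
  refine core h5 hV hfac ?_
  intro v hv
  have h1 := orbit_normal_dvd_m H.half h0 hm L H.le H.nrm hv
  refine ⟨Nat.le_of_dvd (by norm_num) h1, ?_⟩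
  have h2 := Fus.orbit_mul_stab L v
  by_contra h3
  have h4 : 5 ^ 2 ∣ Nat.card (MulAction.orbit L v) * Nat.card (MulAction.stabilizer L v) := by
    rw [h2, hcL]
    exact (by norm_num : 5 ^ 2 ∣ 604800).mul_right _
  have h5 : Nat.Coprime (5 ^ 2) (Nat.card (MulAction.stabilizer L v)) :=
    Nat.Coprime.pow_left 2 ((Nat.Prime.coprime_iff_not_dvd (by norm_num)).2 h3)
  have h6 := (h5.dvd_of_dvd_mul_right h4).trans h1
  norm_num at h6

/-- the row in the form of the assembly `H391.HT.AsmP` -/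
theorem j2 {p : ℕ} [Fact p.Prime] {V : Type u} [AddCommGroup V] [Module (ZMod p) V] [Finite V] {K : Type w} [Field K]
    [Module K V] {G L : Subgroup (V ≃ₗ[ZMod p] V)} {h m : ℕ} (H : H19.HT.QSP p K V G L h)
    (hS : Spor.IsoJ2 (L ⧸ Subgroup.center L)) (hm : m * h = Nat.card G)
    (hl : (Module.finrank K V, Nat.card K, m) ∈ [(6, 4, 315), (12, 2, 315)]) : False :=
  kill_J2 (p := p) (K := K) (V := V) (G := G) (L := L) (h := h)
    ⟨H.half, H.le, H.nrm, H.perf, H.simple, H.nonab, H.lin, H.endo, H.irr⟩ hS hm hl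

end Cfsg.Agent.H506.HT
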